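import Groth.Agent.L17.LocDual.Degree
import Groth.Agent.L17.LocDual.Affine
import Groth.Agent.L29.Dual.SchLocus
import Groth.Agent.L21.Mod.Stalks
import Groth.Agent.L13.ModFibre
import Groth.Agent.L06.NormalAscent
import Groth.Agent.L06.FlatCodepth
import Groth.Agent.L12.CotTCI
import Groth.Agent.S0368

/-!
# The twisted inverse image of a dualizing complex on an integral Cohen–Macaulay scheme sits in one degree
-/

set_option autoImplicit false
set_option backward.defeqAttrib.useBackward true
set_option backward.isDefEq.respectTransparency false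
set_option backward.isDefEq.respectTransparency.types false
set_option linter.style.haveILetI false
set_option linter.unusedSectionVars false

universe u

open CategoryTheory CategoryTheory.Limits CategoryTheory.Pretriangulated AlgebraicGeometry DerivedCategory
attribute [local instance] HasDerivedCategory.standard

noncomputable section

namespace Groth.L17.GRSurf

open Groth.L29 Groth.L29.DC

/-- A normal local domain of dimension at most two is Cohen–Macaulay. -/
theorem cm_of_normal_dim_le_two {B : Type u} [CommRing B] [IsDomain B] [IsNoetherianRing B] [IsLocalRing B]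
    [IsIntegrallyClosed B] (h : ringKrullDim B ≤ 2) : LocCoh.IsCohenMacaulayLocalRing B := by
  by_cases h1 : ringKrullDim B ≤ 1
  · haveI := Groth.L06.NormalAscent.regular_of_normal_dim_le_one h1
    exact Groth.L12.CotTLib.cm_of_regular B
  · refine ⟨le_antisymm ?_ ((Groth.L06.FlatCodepth.depth_le_dim B).trans
      (Module.supportDim_self_eq_ringKrullDim (R := B)).symm.le)⟩
    rw [Module.supportDim_self_eq_ringKrullDim]
    exact h.trans (WithBot.coe_le_coe.2 (Groth.L06.NormalAscent.two_le_depth_of_normal h1))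

variable {A : Type u} [CommRing A] [IsLocalRing A] [IsNoetherianRing A]
  [PreservesFiniteLimits (tilde.functor (CommRingCat.of A))]
  {X : Scheme.{u}} [IsIntegral X] {f : X ⟶ Spec (CommRingCat.of A)} [IsProper f] [DCoh.HasRpush f]
  {h : DCoh.RpushPreservesQCoh f} {a : DCoh.DQCoh (Spec (CommRingCat.of A)) ⥤ DCoh.DQCoh X}
  (adj : DCoh.RpushQ f h ⊣ a)

include adj in
theorem exists_single (W : DCoh.DQCoh (Spec (CommRingCat.of A))) (ω : Dual.D A) (hω : Dual.IsDualizing A ω)
    (hn : Dual.IsNormalized A ω) (hW : Nonempty (W.obj ≅ (DCoh.tildeD (CommRingCat.of A)).obj ω))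
    (hCM : ∀ x : X, LocCoh.IsCohenMacaulayLocalRing (X.presheaf.stalk x)) :
    ∃ d : ℤ, ∀ j : ℤ, j ≠ d → IsZero (DCoh.HD (a.obj W).obj j) := by
  haveI := fun R : CommRingCat.{u} => Groth.L18.TildeF.tilde_preservesFiniteLimits (R := R)
  let P : X → ℤ → Prop := fun x i => Nontrivial ((DCoh.HD (a.obj W).obj i).presheaf.stalk x)
  have key : ∀ x : X, ∃! i : ℤ, P x i := fun x => by
    obtain ⟨B, _, _, jU, _, η, q, m, hqx, -, -, hη, -, ⟨eη⟩⟩ :=
      Groth.L10.ShriekLoc.exists_chart_closed ω hω hn adj W hW x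
    obtain ⟨i, hi, hu⟩ := (SchLocus.cm_iff_existsUnique hη q).1
      ((SchLocus.cm_stalk_iff (A := CommRingCat.of B) jU q).1 (hCM _))
    subst hqx
    exact ⟨i, (SchLocus.nontrivial_stalk_iff (A := CommRingCat.of B) jU eη q i).2 hi,
      fun k hk => hu k ((SchLocus.nontrivial_stalk_iff (A := CommRingCat.of B) jU eη q k).1 hk)⟩
  obtain ⟨d, hd, -⟩ := key (genericPoint X)
  have hall : ∀ x, P x d := fun x => by
    have hcl := Groth.L10.ShriekLoc.isClosed_supp_local ω hω adj W hW d
    have hu : (Set.univ : Set X) ⊆ {x | P x d} := by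
      rw [← (show closure {genericPoint X} = Set.univ from genericPoint_spec X)]
      exact hcl.closure_subset_iff.2 (Set.singleton_subset_iff.2 hd)
    exact hu (Set.mem_univ x)
  refine ⟨d, fun j hj => (Groth.L21.Mod.isZero_iff_stalk_subsingleton _).2 fun x => ?_⟩
  obtain ⟨i, -, hu⟩ := key x
  exact not_nontrivial_iff_subsingleton.1 fun hnt => hj ((hu j hnt).trans (hu d (hall x)).symm)

include adj in
/-- The single degree, measured against a normalizing shift of the dualizing complex. -/
theorem exists_conc (W : DCoh.DQCoh (Spec (CommRingCat.of A))) (ωR : Dual.D A) (c : ℤ)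
    (hcω : Dual.IsDualizing A (ωR⟦c⟧)) (hcn : Dual.IsNormalized A (ωR⟦c⟧))
    (hW : Nonempty (W.obj ≅ (DCoh.tildeD (CommRingCat.of A)).obj ωR))
    (hCM : ∀ x : X, LocCoh.IsCohenMacaulayLocalRing (X.presheaf.stalk x)) :
    ∃ d : ℤ, (∀ j : ℤ, j ≠ d → IsZero (DCoh.HD (a.obj W).obj j)) ∧
      ∀ n : ℕ, topologicalKrullDim X = n → d - c = -(n : ℤ) := by
  haveI := fun R : CommRingCat.{u} => Groth.L18.TildeF.tilde_preservesFiniteLimits (R := R)
  haveI : (tilde.functor (CommRingCat.of A)).Additive := Groth.L17.LocDual.additive_tilde A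
  haveI : PreservesFiniteColimits (tilde.functor (CommRingCat.of A)) :=
    Groth.L17.LocDual.preservesFiniteColimits_tilde A
  obtain ⟨eW⟩ := hW
  let W' : DCoh.DQCoh (Spec (CommRingCat.of A)) := ⟨W.obj⟦c⟧, Gen.isQCohD_shift W.property c⟩
  let eW' : W'.obj ≅ (DCoh.tildeD (CommRingCat.of A)).obj (ωR⟦c⟧) :=
    (shiftFunctor _ c).mapIso eW ≪≫ (((DCoh.tildeD (CommRingCat.of A)).commShiftIso c).app ωR).symm
  obtain ⟨ea⟩ := Groth.L17.LocDual.exists_shift_iso adj W W' c (Iso.refl _)
  obtain ⟨d', hd'⟩ := exists_single adj W' (ωR⟦c⟧) hcω hcn ⟨eW'⟩ hCM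
  have hj : ∀ j : ℤ, j ≠ c + d' → IsZero (DCoh.HD (a.obj W).obj j) := fun j hj =>
    (hd' (j - c) (by omega)).of_iso (((DerivedCategory.homologyFunctor X.Modules (j - c)).mapIso ea ≪≫
      Groth.L10.hShiftIso (a.obj W).obj c (j - c) j (by omega)).symm)
  refine ⟨c + d', hj, fun n hn => ?_⟩
  have := Groth.L17.LocDual.degree_eq adj W' (ωR⟦c⟧) hcω hcn ⟨eW'⟩ hCM d' hd' n hn
  omega

/-- The normalizing shift of a dualizing module of a Cohen–Macaulay local ring is its dimension. -/
theorem shift_eq_dim (M : Type u) [AddCommGroup M] [Module A M] (c : ℤ)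
    (hcω : Dual.IsDualizing A ((Dual.inD A M)⟦c⟧)) (hcn : Dual.IsNormalized A ((Dual.inD A M)⟦c⟧))
    (hA : LocCoh.IsCohenMacaulayLocalRing A) (e : ℕ) (he : ringKrullDim A = e) : c = e := by
  let ω := (Dual.inD A M)⟦c⟧
  haveI : ω.IsGE (0 - c) := TStructure.t.isGE_shift (Dual.inD A M) 0 c (0 - c) (by omega)
  haveI : ω.IsLE (0 - c) := TStructure.t.isLE_shift (Dual.inD A M) 0 c (0 - c) (by omega)
  have hz : ∀ i : ℤ, i ≠ 0 - c → Subsingleton (Dual.HD A ω i) := fun i hi =>
    ModuleCat.subsingleton_of_isZero ((lt_or_gt_of_ne hi).elim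
      (fun h => DerivedCategory.isZero_of_isGE ω (0 - c) i h)
      (fun h => DerivedCategory.isZero_of_isLE ω (0 - c) i h))
  have hnt := (Groth.L10.ShriekLoc.cm_module_of_single ω hcω (0 - c) hz).1
  have hCMmod : LocCoh.IsCohenMacaulayModule A A := hA.supportDim_eq_depth
  have hsd : Module.supportDim A A = e := (Module.supportDim_self_eq_ringKrullDim (R := A)).trans he
  have hvan := (Groth.Agent.S0368.result A ω hcω hcn A e hsd).1 hCMmod
  by_contra hne
  have h1 : Subsingleton (Dual.inD A A ⟶ ω⟦(-c)⟧) := hvan c (by omega)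
  haveI : Subsingleton (Dual.HD A ω (0 - c)) := by
    rw [show 0 - c = -c by omega]
    exact (HomD.evalShiftEquiv (W := ω) (-c)).symm.toEquiv.subsingleton
  exact not_subsingleton (Dual.HD A ω (0 - c)) inferInstance

end Groth.L17.GRSurf
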