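import Groth.Agent.L17.LocDual.Pairing
import Groth.Agent.L10.ShriekLoc.Local
import Groth.Agent.L29.DCoh.RpushQC
import Groth.Agent.L29.LocFree

/-!
# Detecting isomorphisms of quasi-coherent complexes on an affine scheme, and adjunctions on the structure sheaf
-/

set_option autoImplicit false
set_option backward.defeqAttrib.useBackward true
set_option backward.isDefEq.respectTransparency false
set_option backward.isDefEq.respectTransparency.types false
set_option linter.style.haveILetI false
set_option linter.unusedSectionVars false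

universe u

open CategoryTheory CategoryTheory.Limits CategoryTheory.Pretriangulated AlgebraicGeometry DerivedCategory
attribute [local instance] HasDerivedCategory.standard

noncomputable section

namespace Groth.L17.GRSurf

open Groth.L29.DC

/-- A map in `D(A)` bijective on maps out of every shift of `A` is invertible. -/
theorem isIso_of_bijective_eval {A : Type u} [CommRing A] {K L : Dual.D A} (s : K ⟶ L)
    (h : ∀ n : ℤ, Function.Bijective fun x : (Dual.inD A A)⟦n⟧ ⟶ K => x ≫ s) : IsIso s := by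
  obtain ⟨C, g, d, hT⟩ := distinguished_cocone_triangle s
  refine (Triangle.isZero₃_iff_isIso₁ _ hT).1 ?_
  have hC : ∀ n : ℤ, Subsingleton ((Dual.inD A A)⟦n⟧ ⟶ C) := fun n => subsingleton_of_forall_eq 0 fun x => by
    have h3 : x ≫ d = 0 := by
      let e := (shiftFunctorAdd' (Dual.D A) (n - 1) 1 n (by omega)).app (Dual.inD A A)
      obtain ⟨y, hy⟩ := (shiftFunctor (Dual.D A) (1 : ℤ)).map_surjective (e.inv ≫ x ≫ d)
      have hys : y ≫ s = 0 := by
        refine (shiftFunctor (Dual.D A) (1 : ℤ)).map_injective ?_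
        rw [Functor.map_comp, hy, Functor.map_zero, Category.assoc, Category.assoc]
        have h31 : d ≫ s⟦(1 : ℤ)⟧' = 0 := comp_distTriang_mor_zero₃₁ _ hT
        rw [h31, comp_zero, comp_zero]
      have hy0 : y = 0 := (h (n - 1)).1 (show y ≫ s = 0 ≫ s by rw [hys, zero_comp])
      rw [hy0, Functor.map_zero] at hy
      exact (cancel_epi e.inv).1 (hy.symm.trans comp_zero.symm)
    obtain ⟨z, hz⟩ := Triangle.coyoneda_exact₃ _ hT x h3
    obtain ⟨w, hw⟩ := (h n).2 z
    rw [hz, ← hw]
    change (w ≫ s) ≫ g = 0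
    rw [Category.assoc]
    have h12 : s ≫ g = 0 := comp_distTriang_mor_zero₁₂ _ hT
    rw [h12, comp_zero]
  have hz : ∀ i : ℤ, IsZero ((homologyFunctor (ModuleCat.{u} A) i).obj C) := fun i => by
    haveI : Subsingleton (Dual.inD A A ⟶ C⟦i⟧) := by
      haveI := hC (-i)
      refine subsingleton_of_forall_eq 0 fun v => ?_
      let e := (shiftFunctorCompIsoId (Dual.D A) (-i) i (by omega)).app (Dual.inD A A)
      obtain ⟨w, hw⟩ := (shiftFunctor (Dual.D A) i).map_surjective (e.hom ≫ v)
      rw [Subsingleton.elim w 0, Functor.map_zero] at hw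
      exact (cancel_epi e.hom).1 (hw.symm.trans comp_zero.symm)
    haveI : Subsingleton (Dual.HD A C i) := (Groth.L29.HomD.evalShiftEquiv (W := C) i).symm.toEquiv.subsingleton
    exact ModuleCat.isZero_of_subsingleton _
  haveI : C.IsGE 1 := (DerivedCategory.isGE_iff C 1).2 fun i _ => hz i
  haveI : C.IsLE 0 := (DerivedCategory.isLE_iff C 0).2 fun i _ => hz i
  refine (IsZero.iff_id_eq_zero _).2 ?_
  exact (DerivedCategory.TStructure.t (C := ModuleCat.{u} A)).zero (𝟙 C) 0 1 (by omega)

variable {A : Type u} [CommRing A] [PreservesFiniteLimits (tilde.functor (CommRingCat.of A))]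

/-- On quasi-coherent complexes it is enough to test on shifts of the structure sheaf. -/
theorem isIso_of_bijective_structure {G G' : DCoh.D (Spec (CommRingCat.of A))} (hG : DCoh.IsQCohD G)
    (hG' : DCoh.IsQCohD G') (t : G ⟶ G')
    (h : ∀ n : ℤ, Function.Bijective
      fun x : (DCoh.inD _ (Coh.structureModule (Spec (CommRingCat.of A))))⟦n⟧ ⟶ G => x ≫ t) : IsIso t := by
  haveI := fun R : CommRingCat.{u} => Groth.L18.TildeF.tilde_preservesFiniteLimits (R := R)
  obtain ⟨hfull, hfaith⟩ := TildeD.fullyFaithful (R := CommRingCat.of A)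
  let T := DCoh.tildeD (CommRingCat.of A)
  obtain ⟨K, ⟨e⟩⟩ := (TildeD.isQCohD_iff (R := CommRingCat.of A) _).1 hG
  obtain ⟨K', ⟨e'⟩⟩ := (TildeD.isQCohD_iff (R := CommRingCat.of A) _).1 hG'
  obtain ⟨s, hs⟩ := T.map_surjective (e.hom ≫ t ≫ e'.inv)
  suffices IsIso s by
    haveI : IsIso (e.hom ≫ t ≫ e'.inv) := hs ▸ inferInstance
    rw [show t = e.inv ≫ (e.hom ≫ t ≫ e'.inv) ≫ e'.hom by simp]
    infer_instance
  refine isIso_of_bijective_eval s fun n => ?_
  obtain ⟨o⟩ := Groth.L10.ShriekLoc.nonempty_tilde_self_shift A n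
  let a : ((Dual.inD A A)⟦n⟧ ⟶ K) ≃ ((DCoh.inD _ (Coh.structureModule (Spec (CommRingCat.of A))))⟦n⟧ ⟶ G) :=
    (Functor.FullyFaithful.ofFullyFaithful T).homEquiv.trans (Iso.homCongr o e)
  let b : ((Dual.inD A A)⟦n⟧ ⟶ K') ≃ ((DCoh.inD _ (Coh.structureModule (Spec (CommRingCat.of A))))⟦n⟧ ⟶ G') :=
    (Functor.FullyFaithful.ofFullyFaithful T).homEquiv.trans (Iso.homCongr o e')
  refine (Function.Bijective.of_comp_iff' b.bijective _).1 ?_
  rw [show ⇑b ∘ (fun x => x ≫ s) = (fun y => y ≫ t) ∘ ⇑a from funext fun x => by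
    change o.inv ≫ T.map (x ≫ s) ≫ e'.hom = (o.inv ≫ T.map x ≫ e.hom) ≫ t
    rw [Functor.map_comp, hs]
    simp]
  exact (h n).comp a.bijective

end Groth.L17.GRSurf
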