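import Groth.Agent.L17.LocDual.Corep
import Groth.Agent.L05.FibreFactor.Negativity
import Groth.Agent.L05.PtSeq.Trans
import Groth.Agent.L22.Bundle.SecBasis
import Groth.Agent.L16.HomSh.Basic
import Groth.Agent.L19.ProjBdl.Loci
import Groth.Agent.L19.ZClos.Criteria

/-!
# No first local cohomology of `O` along the closed fibre of a normal modification of a surface
-/

set_option autoImplicit false
set_option linter.style.haveILetI false
set_option backward.isDefEq.respectTransparency false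
set_option backward.isDefEq.respectTransparency.types false

universe u

open CategoryTheory CategoryTheory.Limits CategoryTheory.Abelian AlgebraicGeometry TopologicalSpace Opposite
open Groth.L18.Frame (rs ro rs_rs rs_self)
open Groth.L17.LocDual (CZ secTop secTop_injective exists_secTop rs_secTop)

noncomputable section

namespace Groth.L17.GRSurf

theorem rs_sub {X : Scheme.{u}} (M : X.Modules) {U V : X.Opens} (h : V ≤ U) (a b : Γ(M, U)) :
    rs M h (a - b) = rs M h a - rs M h b := map_sub (M.presheaf.map (homOfLE h).op).hom a b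

theorem rs_zero {X : Scheme.{u}} (M : X.Modules) {U V : X.Opens} (h : V ≤ U) : rs M h 0 = 0 :=
  map_zero (M.presheaf.map (homOfLE h).op).hom

theorem app_sub {X : Scheme.{u}} {M N : X.Modules} (φ : M ⟶ N) {U : X.Opens} (a b : Γ(M, U)) :
    φ.app U (a - b) = φ.app U a - φ.app U b := map_sub (φ.app U).hom a b

variable {A : Type u} [CommRing A] [IsDomain A] [IsLocalRing A] [IsNoetherianRing A] [IsIntegrallyClosed A]
  {X : Scheme.{u}} [IsIntegral X] (f : X ⟶ Spec (CommRingCat.of A)) [IsProper f]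

theorem exists_ff_eq_of_negativity (hdim : ringKrullDim A = 2) (hn : Pi1.IsNormalScheme X)
    (hbir : Groth.L05.MinDesing.IsBir f) (R : X.Opens) (hgen : genericPoint X ∈ R)
    (hR : ∀ y : X, f y ≠ IsLocalRing.closedPoint A → y ∈ R)
    (W : X → X.Opens) (hW : ∀ x, x ∈ W x) (b : ∀ x, Γ(X, W x ⊓ R))
    (hd : ∀ x x', ∃ c : Γ(X, W x ⊓ W x'),
      ro (le_inf (inf_le_left.trans inf_le_left) inf_le_right : W x ⊓ W x' ⊓ R ≤ W x ⊓ R) (b x) -
        ro (le_inf (inf_le_left.trans inf_le_right) inf_le_right : W x ⊓ W x' ⊓ R ≤ W x' ⊓ R) (b x') =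
        ro (inf_le_left : W x ⊓ W x' ⊓ R ≤ W x ⊓ W x') c) (x : X) :
    ∃ t : Γ(X, W x), ro (inf_le_left : W x ⊓ R ≤ W x) t = b x := by
  have hg : ∀ x, genericPoint X ∈ W x := fun x =>
    ((genericPoint_spec X).specializes trivial).mem_open (W x).2 (hW x)
  let z : X → X.functionField := fun x => X.presheaf.germ (W x ⊓ R) (genericPoint X) ⟨hg x, hgen⟩ (b x)
  have hff : ∀ (U : X.Opens) (hU : genericPoint X ∈ U) (y : X) (hy : y ∈ U) (a : Γ(X, U)),
      algebraMap (X.presheaf.stalk y) X.functionField (X.presheaf.germ U y hy a) =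
        X.presheaf.germ U (genericPoint X) hU a := fun U hU y hy a => by
    haveI : Nonempty U := ⟨⟨y, hy⟩⟩
    exact Scheme.algebraMap_germ_eq_germToFunctionField X hy a
  have h := Groth.L05.FibreFactor.negativity f hdim hn hbir W (fun y => ⟨y, hW y⟩) z
    (fun i y hy hne => ⟨X.presheaf.germ (W i ⊓ R) y ⟨hy, hR y hne⟩ (b i), hff _ _ _ _ _⟩)
    (fun i j y hi hj => by
      obtain ⟨c, hc⟩ := hd i j
      refine ⟨X.presheaf.germ (W i ⊓ W j) y ⟨hi, hj⟩ c, ?_⟩
      rw [hff _ (show genericPoint X ∈ W i ⊓ W j from ⟨hg i, hg j⟩)]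
      have hc' := congrArg (X.presheaf.germ (W i ⊓ W j ⊓ R) (genericPoint X) ⟨⟨hg i, hg j⟩, hgen⟩) hc
      exact ((TopCat.Presheaf.germ_res_apply X.presheaf _ _ _ c).symm.trans hc'.symm).trans ((map_sub _ _ _).trans
        (congrArg₂ (· - ·) (TopCat.Presheaf.germ_res_apply X.presheaf _ _ _ (b i))
          (TopCat.Presheaf.germ_res_apply X.presheaf _ _ _ (b j))))) x
  obtain ⟨t, ht⟩ := Groth.L05.PtSeq.exists_section_of_mem_stalks (W x) (hg x) (z x) h
  refine ⟨t, germ_injective_of_isIntegral X (genericPoint X) (show genericPoint X ∈ W x ⊓ R from ⟨hg x, hgen⟩) ?_⟩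
  exact (TopCat.Presheaf.germ_res_apply X.presheaf _ _ _ t).trans ht

variable [HasExt.{u} X.Modules]

/-- `H¹` with supports in the closed fibre of the structure sheaf vanishes. -/
theorem subsingleton_ext_one (hdim : ringKrullDim A = 2) (hn : Pi1.IsNormalScheme X)
    (hbir : Groth.L05.MinDesing.IsBir f) (R : X.Opens) (hgen : genericPoint X ∈ R)
    (hR : ∀ y : X, f y ≠ IsLocalRing.closedPoint A → y ∈ R) :
    Subsingleton (Ext.{u} (CZ R) (Coh.structureModule X) 1) := by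
  haveI := Groth.L00.Tensor.grothendieckAbelian_modules X
  let O := Coh.structureModule X
  let S := ShortComplex.mk (Injective.ι O) (cokernel.π (Injective.ι O)) (cokernel.condition _)
  have hS : S.ShortExact := { exact := ShortComplex.exact_of_g_is_cokernel _ (cokernelIsCokernel _) }
  haveI : Injective S.X₂ := inferInstanceAs (Injective (Injective.under O))
  haveI : Mono S.f := inferInstanceAs (Mono (Injective.ι O))
  haveI : Epi S.g := inferInstanceAs (Epi (cokernel.π _))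
  have hinj : ∀ V, Function.Injective (S.f.app V) := fun V =>
    Groth.L19.ZClos.app_injective_of_mono S.f V
  refine subsingleton_of_forall_eq 0 fun x => ?_
  obtain ⟨z, rfl⟩ := Ext.covariant_sequence_exact₁ _ hS x (Ext.eq_zero_of_injective _) rfl
  obtain ⟨φ, rfl⟩ := (Ext.mk₀_bijective _ _).2 z
  suffices ∃ ψ : CZ R ⟶ S.X₂, ψ ≫ S.g = φ by
    obtain ⟨ψ, rfl⟩ := this
    rw [← Ext.mk₀_comp_mk₀, Ext.comp_assoc_of_second_deg_zero, hS.comp_extClass, Ext.comp_zero]
  let s : Γ(S.X₃, ⊤) := secTop R φ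
  have hs : rs S.X₃ (le_top : R ≤ ⊤) s = 0 := rs_secTop R φ
  choose W hWt hxW j hj using fun x : X =>
    Groth.L19.ProjBdl.exists_local_preimage S.g (U := ⊤) s (x := x) trivial
  -- on `R` the lifts are regular
  have hb : ∀ x, ∃ b : Γ(X, W x ⊓ R), S.f.app _ b = rs S.X₂ (inf_le_left : W x ⊓ R ≤ W x) (j x) := fun x => by
    refine Groth.L22.Bundle.app_exact hS _ _ ?_
    rw [Groth.L17.LocCx.app_rs, hj, rs_rs, ← rs_rs S.X₃ (le_top : R ≤ ⊤) (inf_le_right : W x ⊓ R ≤ R), hs]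
    exact rs_zero _ _
  choose b hb using hb
  have hc : ∀ x x', ∃ c : Γ(X, W x ⊓ W x'), S.f.app _ c =
      rs S.X₂ (inf_le_left : W x ⊓ W x' ≤ W x) (j x) - rs S.X₂ (inf_le_right : W x ⊓ W x' ≤ W x') (j x') := by
    intro x x'
    refine Groth.L22.Bundle.app_exact hS _ _ ?_
    rw [app_sub, Groth.L17.LocCx.app_rs, Groth.L17.LocCx.app_rs, hj, hj, rs_rs, rs_rs, sub_self]
  have hd : ∀ x x', ∃ c : Γ(X, W x ⊓ W x'),
      ro (le_inf (inf_le_left.trans inf_le_left) inf_le_right : W x ⊓ W x' ⊓ R ≤ W x ⊓ R) (b x) -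
        ro (le_inf (inf_le_left.trans inf_le_right) inf_le_right : W x ⊓ W x' ⊓ R ≤ W x' ⊓ R) (b x') =
        ro (inf_le_left : W x ⊓ W x' ⊓ R ≤ W x ⊓ W x') c := fun x x' => by
    obtain ⟨c, hc⟩ := hc x x'
    refine ⟨c, hinj _ ?_⟩
    show S.f.app _ (rs O _ (b x) - rs O _ (b x')) = S.f.app _ (rs O _ c)
    rw [app_sub, Groth.L17.LocCx.app_rs, Groth.L17.LocCx.app_rs, Groth.L17.LocCx.app_rs, hb, hb, hc, rs_sub,
      rs_rs, rs_rs, rs_rs, rs_rs]
  choose t ht using exists_ff_eq_of_negativity f hdim hn hbir R hgen hR W hxW b hd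
  -- correct the lifts
  let j' : ∀ x, Γ(S.X₂, W x) := fun x => j x - S.f.app (W x) (t x)
  have hj'R : ∀ x, rs S.X₂ (inf_le_left : W x ⊓ R ≤ W x) (j' x) = 0 := fun x => by
    show rs S.X₂ _ (j x - _) = 0
    rw [rs_sub, ← hb, ← Groth.L17.LocCx.app_rs, sub_eq_zero]
    exact congrArg _ (ht x).symm
  have hj'g : ∀ x, S.g.app (W x) (j' x) = rs S.X₃ (hWt x) s := fun x => by
    show S.g.app (W x) (j x - _) = _
    rw [app_sub, hj, sub_eq_self]
    exact congr(($(S.zero)).app (W x) (t x))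
  have hcompat : ∀ x x', rs S.X₂ (inf_le_left : W x ⊓ W x' ≤ W x) (j' x) =
      rs S.X₂ (inf_le_right : W x ⊓ W x' ≤ W x') (j' x') := fun x x' => by
    obtain ⟨c, hc⟩ := Groth.L22.Bundle.app_exact hS (W x ⊓ W x')
      (rs S.X₂ (inf_le_left : W x ⊓ W x' ≤ W x) (j' x) - rs S.X₂ (inf_le_right : W x ⊓ W x' ≤ W x') (j' x')) (by
        rw [app_sub, Groth.L17.LocCx.app_rs, Groth.L17.LocCx.app_rs, hj'g, hj'g, rs_rs, rs_rs, sub_self])
    have h0 : rs O (inf_le_left : W x ⊓ W x' ⊓ R ≤ W x ⊓ W x') c = 0 := by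
      refine hinj _ ?_
      rw [map_zero, Groth.L17.LocCx.app_rs, hc, rs_sub, rs_rs, rs_rs,
        ← rs_rs S.X₂ (inf_le_left : W x ⊓ R ≤ W x)
          (le_inf (inf_le_left.trans inf_le_left) inf_le_right : W x ⊓ W x' ⊓ R ≤ W x ⊓ R),
        ← rs_rs S.X₂ (inf_le_left : W x' ⊓ R ≤ W x')
          (le_inf (inf_le_left.trans inf_le_right) inf_le_right : W x ⊓ W x' ⊓ R ≤ W x' ⊓ R),
        hj'R, hj'R, rs_zero, rs_zero, sub_zero]
    have hgW : ∀ x, genericPoint X ∈ W x := fun x =>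
      ((genericPoint_spec X).specializes trivial).mem_open (W x).2 (hxW x)
    have hc0 : (c : Γ(X, W x ⊓ W x')) = 0 := by
      refine germ_injective_of_isIntegral X (genericPoint X)
        (show genericPoint X ∈ W x ⊓ W x' from ⟨hgW x, hgW x'⟩) ?_
      rw [map_zero]
      exact (TopCat.Presheaf.germ_res_apply X.presheaf (homOfLE inf_le_left) _
        (show genericPoint X ∈ W x ⊓ W x' ⊓ R from ⟨⟨hgW x, hgW x'⟩, hgen⟩) c).symm.trans
        ((congrArg _ h0).trans (map_zero _))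
    rw [← sub_eq_zero, ← hc, hc0]
    exact map_zero _
  obtain ⟨J, hJ⟩ := Groth.L16.HomSh.exists_glue S.X₂ W (W := ⊤) (fun x => le_top)
    (fun x _ => Opens.mem_iSup.2 ⟨x, hxW x⟩) j' hcompat
  obtain ⟨ψ, hψ⟩ := exists_secTop R J (Groth.L16.HomSh.ext_cover S.X₂ (fun x => W x ⊓ R) (fun x => inf_le_right)
    (fun x hx => Opens.mem_iSup.2 ⟨x, hxW x, hx⟩) fun x => by
      rw [rs_rs, rs_zero, ← rs_rs S.X₂ (le_top : W x ≤ ⊤) (inf_le_left : W x ⊓ R ≤ W x), hJ, hj'R])
  refine ⟨ψ, secTop_injective R ?_⟩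
  rw [Groth.L17.LocDual.secTop_comp, hψ]
  refine Groth.L16.HomSh.ext_cover S.X₃ W (fun x => le_top) (fun x _ => Opens.mem_iSup.2 ⟨x, hxW x⟩) fun x => ?_
  rw [← Groth.L17.LocCx.app_rs, hJ, hj'g]

end Groth.L17.GRSurf
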