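import Groth.Agent.L17.GRSurf.Setup
import Groth.Agent.L17.LocDual.Main
import Groth.Agent.L29.DCoh.RpushQCoh

/-!
# Maps from modules of finite length into the direct image of the structure sheaf of a modification
-/

set_option autoImplicit false
set_option backward.defeqAttrib.useBackward true
set_option backward.isDefEq.respectTransparency false
set_option backward.isDefEq.respectTransparency.types false
set_option linter.style.haveILetI false
set_option linter.unusedSectionVars false

universe u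

open CategoryTheory CategoryTheory.Limits CategoryTheory.Pretriangulated CategoryTheory.Abelian AlgebraicGeometry
  DerivedCategory IsLocalRing
attribute [local instance] HasDerivedCategory.standard

noncomputable section

namespace Groth.L17.GRSurf

open Groth.L29.DC
open Groth.L17.LocDual (CZ punX CXD CD pun Bij psi secTop secTop_injective rs_secTop)
open Groth.L29.LocDual (P Q)
open Groth.L29.LocDual renaming res → pres, proj → pproj

variable {A : Type u} [CommRing A]

/-- Precomposition with an epimorphism is injective into complexes in nonnegative degrees. -/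
theorem eq_zero_of_epi_comp {M N : ModuleCat.{u} A} (π : M ⟶ N) [Epi π] (K : Dual.D A) [hK : K.IsGE 0]
    (v : (DerivedCategory.singleFunctor (ModuleCat.{u} A) 0).obj N ⟶ K)
    (h : (DerivedCategory.singleFunctor (ModuleCat.{u} A) 0).map π ≫ v = 0) : v = 0 := by
  have hS : (ShortComplex.mk (kernel.ι π) π (kernel.condition π)).ShortExact :=
    { exact := ShortComplex.exact_kernel π }
  obtain ⟨w, hw⟩ := Triangle.yoneda_exact₃ _ hS.singleTriangle_distinguished v h
  let t := DerivedCategory.TStructure.t (C := ModuleCat.{u} A)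
  haveI : t.IsGE K 0 := hK
  have hw0 : w = 0 := @Triangulated.TStructure.zero _ _ _ _ _ _ _ t _ _ w (-1) 0 (by omega)
    (t.isLE_shift ((DerivedCategory.singleFunctor (ModuleCat.{u} A) 0).obj (kernel π)) 0 1 (-1) (by omega)) hK
  rw [hw, hw0, comp_zero]

/-- The same one degree up, provided nothing maps out of the kernel. -/
theorem eq_zero_of_epi_comp_shift {M N : ModuleCat.{u} A} (π : M ⟶ N) [Epi π] (K : Dual.D A)
    (hker : Subsingleton ((DerivedCategory.singleFunctor (ModuleCat.{u} A) 0).obj (kernel π) ⟶ K))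
    (v : (DerivedCategory.singleFunctor (ModuleCat.{u} A) 0).obj N ⟶ K⟦(1 : ℤ)⟧)
    (h : (DerivedCategory.singleFunctor (ModuleCat.{u} A) 0).map π ≫ v = 0) : v = 0 := by
  have hS : (ShortComplex.mk (kernel.ι π) π (kernel.condition π)).ShortExact :=
    { exact := ShortComplex.exact_kernel π }
  obtain ⟨w, hw⟩ := Triangle.yoneda_exact₃ _ hS.singleTriangle_distinguished v h
  haveI := hker
  obtain ⟨w', hw'⟩ := (shiftFunctor (Dual.D A) (1 : ℤ)).map_surjective w
  have h0 : w' = 0 := @Subsingleton.elim _ hker w' 0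
  rw [hw, ← hw', h0, Functor.map_zero, comp_zero]

variable [IsLocalRing A] [IsNoetherianRing A]

theorem epi_pproj {k l : ℕ} (h : k ≤ l) : Epi (pproj (A := A) h) :=
  (ModuleCat.epi_iff_surjective _).2 (Submodule.factor_surjective (Ideal.pow_le_pow_right h))

/-- Maps out of finite modules killed by a power of the maximal ideal. -/
theorem subsingleton_of_killed (K : Dual.D A) [K.IsGE 0] (hP : ∀ k, Subsingleton (P A k ⟶ K))
    (N : ModuleCat.{u} A) [Module.Finite A N] (l : ℕ) (hl : ∀ a ∈ maximalIdeal A ^ l, ∀ x : N, a • x = 0) :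
    Subsingleton ((DerivedCategory.singleFunctor (ModuleCat.{u} A) 0).obj N ⟶ K) := by
  classical
  refine subsingleton_of_forall_eq 0 fun v => ?_
  obtain ⟨r, g, hg⟩ := Module.Finite.exists_fin (R := A) (M := N)
  let π₀ : ∀ i : Fin r, (A ⧸ maximalIdeal A ^ l) →ₗ[A] N := fun i =>
    Submodule.liftQ _ (LinearMap.toSpanSingleton A N (g i)) fun a ha => hl a ha (g i)
  let π : ModuleCat.of A (Fin r → A ⧸ maximalIdeal A ^ l) ⟶ N :=
    ModuleCat.ofHom (∑ i, π₀ i ∘ₗ LinearMap.proj i)
  haveI : Epi π := (ModuleCat.epi_iff_range_eq_top _).2 (by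
    rw [← top_le_iff, ← hg, Submodule.span_le, Set.range_subset_iff]
    intro i
    refine ⟨Pi.single i (Submodule.Quotient.mk 1), ?_⟩
    simp only [π, ModuleCat.hom_ofHom, LinearMap.sum_apply, LinearMap.comp_apply, LinearMap.proj_apply]
    rw [Finset.sum_eq_single i (fun j _ hj => by rw [Pi.single_eq_of_ne hj, map_zero]) (by simp),
      Pi.single_eq_same]
    change (1 : A) • g i = g i
    exact one_smul A _)
  refine eq_zero_of_epi_comp π K v ?_
  have hπ : π = ∑ i, (ModuleCat.ofHom (LinearMap.proj i) :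
      ModuleCat.of A (Fin r → A ⧸ maximalIdeal A ^ l) ⟶ Q l) ≫ ModuleCat.ofHom (π₀ i) := by
    ext x
    simp [π]
  rw [hπ, Functor.map_sum, Preadditive.sum_comp]
  refine Finset.sum_eq_zero fun i _ => ?_
  rw [Functor.map_comp, Category.assoc]
  haveI := hP l
  rw [show (DerivedCategory.singleFunctor (ModuleCat.{u} A) 0).map (ModuleCat.ofHom (π₀ i)) ≫ v =
    (0 : P A l ⟶ K) from @Subsingleton.elim _ (hP l) _ _, comp_zero]

variable [PreservesFiniteLimits (tilde.functor (CommRingCat.of A))]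
  {X : Scheme.{u}} [X.Over (Spec (CommRingCat.of A))]
  [DCoh.HasRpush (X ↘ Spec (CommRingCat.of A))]

/-- Maps out of `CZ` downstairs are maps out of `CZ` upstairs. -/
theorem nonempty_CD_equiv (G : DCoh.D X) :
    Nonempty ((CD A ⟶ (DCoh.Rpush (X ↘ Spec (CommRingCat.of A))).obj G) ≃ (CXD A X ⟶ G)) := by
  let f := X ↘ Spec (CommRingCat.of A)
  haveI := Groth.L00.KFlat.hasLpull f
  obtain ⟨o₁⟩ := Groth.L17.LocDual.nonempty_Lpull_inD f (CZ (pun A)) (Groth.L17.LocDual.isFlat_CZ _)
  obtain ⟨o₂⟩ := Groth.L17.LocDual.nonempty_pullback_CZ (pun A) f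
  let o : (DCoh.Lpull f).obj (CD A) ≅ CXD A X :=
    o₁ ≪≫ (DerivedCategory.singleFunctor X.Modules 0).mapIso o₂
  exact ⟨((Groth.L29.BC.adj f).homEquiv _ _).symm.trans (Iso.homCongr o (Iso.refl G))⟩

variable [IsDomain A] [IsIntegrallyClosed A] [IsIntegral X] [IsProper (X ↘ Spec (CommRingCat.of A))]

theorem subsingleton_hom_CZ (hdim : ringKrullDim A = 2)
    (hbir : Groth.L05.MinDesing.IsBir (X ↘ Spec (CommRingCat.of A))) :
    Subsingleton (CZ (punX A X) ⟶ Coh.structureModule X) := by
  refine subsingleton_of_forall_eq 0 fun φ => secTop_injective _ ?_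
  have h := rs_secTop (punX A X) φ
  show (secTop (punX A X) φ : Γ(X, ⊤)) = _
  refine Eq.trans ?_ (show (0 : Γ(X, ⊤)) = (secTop (punX A X) (0 : CZ (punX A X) ⟶ Coh.structureModule X) : Γ(X, ⊤)) from rfl)
  refine germ_injective_of_isIntegral X (genericPoint X) (show genericPoint X ∈ (⊤ : X.Opens) from trivial) ?_
  rw [map_zero]
  exact (TopCat.Presheaf.germ_res_apply X.presheaf (homOfLE le_top) _ (genericPoint_mem_punX hdim hbir)
    (secTop (punX A X) φ : Γ(X, ⊤))).symm.trans ((congrArg _ h).trans (map_zero _))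

/-- `Hom(κ[-1], Rf_* O) = 0`. -/
theorem subsingleton_kappa (hdim : ringKrullDim A = 2) (hn : Pi1.IsNormalScheme X)
    (hbir : Groth.L05.MinDesing.IsBir (X ↘ Spec (CommRingCat.of A))) :
    Subsingleton ((((DCoh.tildeD (CommRingCat.of A)).obj (Dual.inD A (ResidueField A)))⟦(-1 : ℤ)⟧) ⟶
      (DCoh.Rpush (X ↘ Spec (CommRingCat.of A))).obj (DCoh.inD X (Coh.structureModule X))) := by
  let f := X ↘ Spec (CommRingCat.of A)
  haveI : IsLocallyNoetherian X := LocallyOfFiniteType.isLocallyNoetherian f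
  haveI := Groth.L00.Tensor.grothendieckAbelian_modules X
  haveI : HasExt.{u} X.Modules := inferInstance
  haveI : (DCoh.Rpush f).Additive := RpushColim.additive_Rpush f
  letI := Gen.commShiftRpush f
  haveI := fun R : CommRingCat.{u} => Groth.L18.TildeF.tilde_preservesFiniteLimits (R := R)
  haveI : (tilde.functor (CommRingCat.of A)).Additive := Groth.L17.LocDual.additive_tilde A
  haveI : PreservesFiniteColimits (tilde.functor (CommRingCat.of A)) :=
    Groth.L17.LocDual.preservesFiniteColimits_tilde A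
  obtain ⟨hfull, hfaith⟩ := TildeD.fullyFaithful (R := CommRingCat.of A)
  have h : DCoh.RpushPreservesQCoh f := fun K hK => RpushQC.isQCohD_Rpush f K hK
  let O := Coh.structureModule X
  obtain ⟨-, K₁, p, q, _, _, -, ⟨eK₁⟩⟩ :=
    Groth.L17.LocDual.exists_model h O (Groth.L16.Rees.RelVanish.isCoh_structureModule X) 1
  let K : Dual.D A := K₁⟦(-1 : ℤ)⟧
  let eK : (DCoh.tildeD (CommRingCat.of A)).obj K ≅ (DCoh.Rpush f).obj (DCoh.inD X O) :=
    ((DCoh.tildeD (CommRingCat.of A)).commShiftIso (-1 : ℤ)).app K₁ ≪≫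
      (shiftFunctor _ (-1 : ℤ)).mapIso (eK₁ ≪≫ ((DCoh.Rpush f).commShiftIso (1 : ℤ)).app _) ≪≫
      (shiftFunctorCompIsoId (DCoh.D (Spec (CommRingCat.of A))) (1 : ℤ) (-1) (by omega)).app _
  haveI : K.IsGE (p + 1) := TStructure.t.isGE_shift K₁ p (-1) (p + 1) (by omega)
  haveI : K.IsLE (q + 1) := TStructure.t.isLE_shift K₁ q (-1) (q + 1) (by omega)
  haveI : ((DCoh.Rpush f).obj (DCoh.inD X O)).IsGE 0 := RpushQC.isGE_Rpush f _ 0
  haveI : K.IsGE 0 := (DerivedCategory.isGE_iff K 0).2 fun l hl => by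
    haveI : Subsingleton ((Groth.L02.PC.HH l).obj K) :=
      Groth.L19.Pinch.subsingleton_of_isZero_tilde (R := CommRingCat.of A) _
        ((DerivedCategory.isZero_of_isGE ((DCoh.Rpush f).obj (DCoh.inD X O)) 0 l hl).of_iso
          ((Groth.L29.DC.TildeAlg.hdIso (R := CommRingCat.of A) K l).symm ≪≫
            (DerivedCategory.homologyFunctor _ l).mapIso eK))
    exact ModuleCat.isZero_of_subsingleton _
  -- maps out of `CZ`
  have hC0 : Subsingleton (CD A ⟶ (DCoh.tildeD (CommRingCat.of A)).obj K) := by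
    obtain ⟨e⟩ := nonempty_CD_equiv (A := A) (DCoh.inD X O)
    haveI := subsingleton_hom_CZ (A := A) (X := X) hdim hbir
    haveI : Subsingleton (CXD A X ⟶ DCoh.inD X O) :=
      ((Functor.FullyFaithful.ofFullyFaithful (DerivedCategory.singleFunctor X.Modules 0)).homEquiv).symm.subsingleton
    exact ((Iso.homCongr (Iso.refl (CD A)) eK).trans e).subsingleton
  have hC1 : Subsingleton (CD A ⟶ (DCoh.tildeD (CommRingCat.of A)).obj (K⟦(1 : ℤ)⟧)) := by
    obtain ⟨e⟩ := nonempty_CD_equiv (A := A) ((DCoh.inD X O)⟦(1 : ℤ)⟧)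
    haveI := subsingleton_ext_CZ (A := A) (X := X) hdim hn hbir
    haveI : Subsingleton (CXD A X ⟶ (DCoh.inD X O)⟦((1 : ℕ) : ℤ)⟧) :=
      (Ext.homEquiv (X := CZ (punX A X)) (Y := O) (n := 1)).symm.subsingleton
    exact ((Iso.homCongr (Iso.refl (CD A))
      (((DCoh.tildeD (CommRingCat.of A)).commShiftIso (1 : ℤ)).app K ≪≫ (shiftFunctor _ (1 : ℤ)).mapIso eK ≪≫
        (((DCoh.Rpush f).commShiftIso (1 : ℤ)).app _).symm)).trans e).subsingleton
  have hP : ∀ k, Subsingleton (P A k ⟶ K) := fun k => subsingleton_of_forall_eq 0 fun x => by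
    haveI := hC0
    obtain ⟨l, hl, hl0⟩ := (Groth.L17.LocDual.bij_of_bounded K (p + 1) (q + 1)).1 k x (Subsingleton.elim _ _)
    haveI := epi_pproj (A := A) hl
    exact eq_zero_of_epi_comp (pproj hl) K x hl0
  have h1 : Subsingleton (P A 1 ⟶ K⟦(1 : ℤ)⟧) := subsingleton_of_forall_eq 0 fun x => by
    haveI := hC1
    haveI : (K⟦(1 : ℤ)⟧).IsGE p := TStructure.t.isGE_shift K (p + 1) 1 p (by omega)
    haveI : (K⟦(1 : ℤ)⟧).IsLE q := TStructure.t.isLE_shift K (q + 1) 1 q (by omega)
    obtain ⟨l, hl, hl0⟩ := (Groth.L17.LocDual.bij_of_bounded (K⟦(1 : ℤ)⟧) p q).1 1 x (Subsingleton.elim _ _)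
    haveI := epi_pproj (A := A) hl
    haveI : IsNoetherian A (Q (A := A) l) := inferInstance
    haveI : Module.Finite A ↥(kernel (pproj (A := A) hl)) :=
      Module.Finite.of_injective (kernel.ι (pproj (A := A) hl)).hom ((ModuleCat.mono_iff_injective _).1 inferInstance)
    refine eq_zero_of_epi_comp_shift (pproj hl) K (subsingleton_of_killed K hP _ l fun a ha z => ?_) x hl0
    apply (ModuleCat.mono_iff_injective (kernel.ι (pproj (A := A) hl))).1 inferInstance
    refine (map_smul _ a z).trans (Eq.trans ?_ (map_zero _).symm)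
    obtain ⟨y, hy⟩ := Submodule.Quotient.mk_surjective _ ((kernel.ι (pproj (A := A) hl)).hom z)
    rw [← hy]
    exact (Submodule.Quotient.mk_eq_zero _).2 (Ideal.mul_mem_right _ _ ha)
  let eQ : Dual.inD A (ResidueField A) ≅ P A 1 := (DerivedCategory.singleFunctor (ModuleCat.{u} A) 0).mapIso
    (Submodule.quotEquivOfEq _ _ (pow_one (maximalIdeal A)).symm).toModuleIso
  haveI : Subsingleton (Dual.inD A (ResidueField A) ⟶ K⟦(1 : ℤ)⟧) :=
    (Iso.homCongr eQ (Iso.refl _)).subsingleton
  haveI : Subsingleton ((Dual.inD A (ResidueField A))⟦(-1 : ℤ)⟧ ⟶ K) :=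
    ((Iso.homCongr (Iso.refl _) (((shiftFunctorCompIsoId (Dual.D A) (1 : ℤ) (-1) (by omega)).app K).symm)).trans
      ((Functor.FullyFaithful.ofFullyFaithful (shiftFunctor (Dual.D A) (-1 : ℤ))).homEquiv).symm).subsingleton
  exact (((Functor.FullyFaithful.ofFullyFaithful (DCoh.tildeD (CommRingCat.of A))).homEquiv
    (X := (Dual.inD A (ResidueField A))⟦(-1 : ℤ)⟧) (Y := K)).trans
      (Iso.homCongr (((DCoh.tildeD (CommRingCat.of A)).commShiftIso (-1 : ℤ)).app _) eK)).symm.subsingleton

end Groth.L17.GRSurf
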