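import Groth.Agent.L17.GRSurf.H1Z
import Groth.Agent.L17.GRSurf.Conc
import Groth.Agent.L17.LocDual.Pairing

/-!
# Normal modifications of two-dimensional local domains
-/

set_option autoImplicit false
set_option backward.isDefEq.respectTransparency false
set_option backward.isDefEq.respectTransparency.types false
set_option linter.style.haveILetI false
set_option linter.unusedSectionVars false

universe u

open CategoryTheory CategoryTheory.Limits CategoryTheory.Abelian AlgebraicGeometry
open Groth.L17.LocDual (CZ punX)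

noncomputable section

namespace Groth.L17.GRSurf

variable {A : Type u} [CommRing A] [IsDomain A] [IsLocalRing A] [IsNoetherianRing A]
  {X : Scheme.{u}} [IsIntegral X]

theorem stalk_dim_le (hdim : ringKrullDim A = 2) (f : X ⟶ Spec (CommRingCat.of A)) [LocallyOfFiniteType f]
    (hbir : Groth.L05.MinDesing.IsBir f) (x : X) : ringKrullDim (X.presheaf.stalk x) ≤ 2 := by
  obtain ⟨U, ⟨y, hy⟩, hU⟩ := hbir
  obtain ⟨z, -⟩ := (f ∣_ U).homeomorph.surjective ⟨y, hy⟩
  exact (Groth.L13.ModFibre.ringKrullDim_stalk_le f U ⟨z.1, z.2⟩ x).trans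
    ((Groth.L13.ModFibre.ringKrullDim_stalk_le_topologicalKrullDim _).trans
      ((PrimeSpectrum.topologicalKrullDim_eq_ringKrullDim A).trans_le hdim.le))

theorem cm_stalk (hdim : ringKrullDim A = 2) (f : X ⟶ Spec (CommRingCat.of A)) [LocallyOfFiniteType f]
    (hn : Pi1.IsNormalScheme X) (hbir : Groth.L05.MinDesing.IsBir f) (x : X) :
    LocCoh.IsCohenMacaulayLocalRing (X.presheaf.stalk x) := by
  haveI : IsLocallyNoetherian X := LocallyOfFiniteType.isLocallyNoetherian f
  haveI := (hn x).1
  haveI := (hn x).2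
  exact cm_of_normal_dim_le_two (stalk_dim_le hdim f hbir x)

theorem exists_dim (hdim : ringKrullDim A = 2) (f : X ⟶ Spec (CommRingCat.of A)) [LocallyOfFiniteType f]
    (hbir : Groth.L05.MinDesing.IsBir f) : ∃ n : ℕ, topologicalKrullDim X = n := by
  have h2 : topologicalKrullDim X ≤ 2 := Groth.L19.DimTrdeg.dim_le_of_stalks (stalk_dim_le hdim f hbir)
  have h0 : (0 : WithBot ℕ∞) ≤ topologicalKrullDim X :=
    ringKrullDim_nonneg_of_nontrivial.trans
      (Groth.L13.ModFibre.ringKrullDim_stalk_le_topologicalKrullDim (genericPoint X))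
  obtain ⟨a, ha⟩ := WithBot.ne_bot_iff_exists.1 (fun hb => by rw [hb] at h0; simp at h0 :
    topologicalKrullDim X ≠ ⊥)
  rw [← ha] at h2 ⊢
  have h2' : a ≤ 2 := WithBot.coe_le_coe.1 h2
  obtain ⟨n, rfl⟩ := ENat.ne_top_iff_exists.1 (ne_top_of_le_ne_top (by simp) h2')
  exact ⟨n, rfl⟩

variable [IsIntegrallyClosed A] [X.Over (Spec (CommRingCat.of A))] [IsProper (X ↘ Spec (CommRingCat.of A))]

theorem mem_punX {y : X} (hy : (X ↘ Spec (CommRingCat.of A)) y ≠ IsLocalRing.closedPoint A) : y ∈ punX A X :=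
  fun hmem => hy (PrimeSpectrum.ext
    (((IsLocalRing.maximalIdeal.isMaximal A).eq_of_le (PrimeSpectrum.isPrime _).ne_top hmem).symm))

theorem genericPoint_mem_punX (hdim : ringKrullDim A = 2)
    (hbir : Groth.L05.MinDesing.IsBir (X ↘ Spec (CommRingCat.of A))) : genericPoint X ∈ punX A X :=
  mem_punX (Groth.L05.FibreFactor.apply_genericPoint_ne _ hdim hbir)

theorem subsingleton_ext_CZ [HasExt.{u} X.Modules] (hdim : ringKrullDim A = 2) (hn : Pi1.IsNormalScheme X)
    (hbir : Groth.L05.MinDesing.IsBir (X ↘ Spec (CommRingCat.of A))) :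
    Subsingleton (Ext.{u} (CZ (punX A X)) (Coh.structureModule X) 1) :=
  subsingleton_ext_one _ hdim hn hbir _ (genericPoint_mem_punX hdim hbir) fun _ hy => mem_punX hy

end Groth.L17.GRSurf
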