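import Groth.Agent.L17.GRSurf.Detect
import Groth.Agent.L17.GRSurf.Setup
import Groth.Agent.L17.AffineVanishing
import Groth.Agent.L16.Rees.RelVanish
import Groth.Agent.L05.RatPow.Birat
import Groth.Agent.L10.TopDual.Main

/-!
# The trace is invertible when the direct image of the structure sheaf is trivial
-/

set_option autoImplicit false
set_option backward.defeqAttrib.useBackward true
set_option backward.isDefEq.respectTransparency false
set_option backward.isDefEq.respectTransparency.types false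
set_option linter.style.haveILetI false
set_option linter.unusedSectionVars false

universe u

open CategoryTheory CategoryTheory.Limits CategoryTheory.Pretriangulated CategoryTheory.Abelian AlgebraicGeometry
  DerivedCategory
attribute [local instance] HasDerivedCategory.standard

noncomputable section

namespace Groth.L17.GRSurf

open Groth.L29.DC

section Structure

variable {A : Type u} [CommRing A] {Y : Scheme.{u}} [Y.Over (Spec (CommRingCat.of A))]

/-- Endomorphisms of the structure sheaf in the derived category. -/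
theorem bijective_smul_id_inD (h : Function.Bijective (Coh.toGlobal (Y ↘ Spec (CommRingCat.of A)))) :
    Function.Bijective fun r : A => r • 𝟙 (DCoh.inD Y (Coh.structureModule Y)) := by
  haveI : (DerivedCategory.singleFunctor Y.Modules 0).Linear A := inferInstance
  have key : ∀ r : A, (r • 𝟙 (Coh.structureModule Y)).app ⊤ (1 : Γ(Y, ⊤)) =
      Coh.toGlobal (Y ↘ Spec (CommRingCat.of A)) r := fun r => by
    rw [KLin.smul_id]
    show Y.presheaf.map (homOfLE (le_top : (⊤ : Y.Opens) ≤ ⊤)).op (Coh.toGlobal (Y ↘ Spec (CommRingCat.of A)) r) *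
      (1 : Γ(Y, ⊤)) = _
    rw [mul_one]
    exact Groth.L18.Frame.ro_self _ _
  have h1 : Function.Bijective fun r : A => r • 𝟙 (Coh.structureModule Y) := by
    refine ⟨fun r r' hrr => h.1 ?_, fun φ => ?_⟩
    · rw [← key, ← key]; exact congrArg (fun z : Coh.structureModule Y ⟶ _ => z.app ⊤ (1 : Γ(Y, ⊤))) hrr
    · obtain ⟨r, hr⟩ := h.2 (φ.app ⊤ (1 : Γ(Y, ⊤)))
      exact ⟨r, Groth.L29.LocNoeth.hom_ext_one ((key r).trans hr)⟩
  have h2 := ((Functor.FullyFaithful.ofFullyFaithful (DerivedCategory.singleFunctor Y.Modules 0)).map_bijective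
    (Coh.structureModule Y) (Coh.structureModule Y)).comp h1
  convert h2 using 1
  funext r
  show _ = (DerivedCategory.singleFunctor Y.Modules 0).map (r • 𝟙 (Coh.structureModule Y))
  rw [Functor.map_smul, CategoryTheory.Functor.map_id]

/-- No maps between shifts of the structure sheaf when it has no higher cohomology. -/
theorem subsingleton_hom_shift (h : ∀ k : ℕ, 0 < k → Subsingleton (Coh.HH Y (Coh.structureModule Y) k))
    (m : ℤ) (hm : m ≠ 0) :
    Subsingleton (DCoh.inD Y (Coh.structureModule Y) ⟶ (DCoh.inD Y (Coh.structureModule Y))⟦m⟧) := by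
  haveI := Groth.L00.Tensor.grothendieckAbelian_modules Y
  haveI : HasExt.{u} Y.Modules := inferInstance
  rcases lt_or_gt_of_ne hm with hneg | hpos
  · refine subsingleton_of_forall_eq 0 fun v => ?_
    let t := DerivedCategory.TStructure.t (C := Y.Modules)
    exact @Triangulated.TStructure.zero _ _ _ _ _ _ _ t _ _ v 0 (-m) (by omega) inferInstance
      (t.isGE_shift (DCoh.inD Y (Coh.structureModule Y)) 0 m (-m) (by omega))
  · obtain ⟨k, rfl⟩ := Int.eq_ofNat_of_zero_le hpos.le
    haveI := h k (by omega)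
    haveI : Subsingleton (Ext.{u} (Coh.structureModule Y) (Coh.structureModule Y) k) :=
      (Equiv.ofBijective _ (Groth.L10.TopDual.ev_bijective k (Coh.structureModule Y))).subsingleton
    exact (Ext.homEquiv (X := Coh.structureModule Y) (Y := Coh.structureModule Y) (n := k)).symm.subsingleton

theorem isQCohD_inD_structure [IsLocallyNoetherian Y] : DCoh.IsQCohD (DCoh.inD Y (Coh.structureModule Y)) :=
  Groth.L10.TopDual.isQCohD_inD _ (Groth.L16.Rees.RelVanish.isCoh_structureModule Y).1

end Structure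

theorem bijective_map_shift {C D : Type*} [Category C] [Category D] [HasShift C ℤ] [HasShift D ℤ] (F : C ⥤ D)
    [F.CommShift ℤ] (P : C) (h : ∀ G : C, Function.Bijective fun v : P ⟶ G => F.map v) (n : ℤ) (G : C) :
    Function.Bijective fun v : P⟦n⟧ ⟶ G => F.map v := by
  let e : (G⟦-n⟧)⟦n⟧ ≅ G := (shiftFunctorCompIsoId C (-n) n (by omega)).app G
  let c := (F.commShiftIso n).app P
  let c' := (F.commShiftIso n).app (G⟦-n⟧)
  have hw : Function.Bijective fun w : P ⟶ G⟦-n⟧ => w⟦n⟧' ≫ e.hom :=
    ⟨fun p q hpq => (shiftFunctor C n).map_injective ((cancel_mono e.hom).1 hpq), fun v => by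
      obtain ⟨w, hw⟩ := (shiftFunctor C n).map_surjective (v ≫ e.inv)
      exact ⟨w, by dsimp only; rw [hw, Category.assoc, e.inv_hom_id, Category.comp_id]⟩⟩
  have hm : Function.Bijective fun z : F.obj P ⟶ F.obj (G⟦-n⟧) => c.hom ≫ z⟦n⟧' ≫ c'.inv ≫ F.map e.hom :=
    ⟨fun p q hpq => (shiftFunctor D n).map_injective ((cancel_mono (c'.inv ≫ F.map e.hom)).1
      ((cancel_epi c.hom).1 hpq)), fun v => by
      obtain ⟨z, hz⟩ := (shiftFunctor D n).map_surjective (c.inv ≫ v ≫ F.map e.inv ≫ c'.hom)
      refine ⟨z, ?_⟩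
      dsimp only
      rw [hz]
      simp [← Functor.map_comp]⟩
  refine (Function.Bijective.of_comp_iff _ hw).1 ?_
  rw [show (fun v : P⟦n⟧ ⟶ G => F.map v) ∘ (fun w : P ⟶ G⟦-n⟧ => w⟦n⟧' ≫ e.hom) =
      (fun z : F.obj P ⟶ F.obj (G⟦-n⟧) => c.hom ≫ z⟦n⟧' ≫ c'.inv ≫ F.map e.hom) ∘
        (fun w : P ⟶ G⟦-n⟧ => F.map w) from funext fun w => by
    simp only [Function.comp_apply, c, c', Iso.app_hom, Iso.app_inv, Functor.map_comp]
    rw [← Category.assoc, ← Category.assoc]
    refine congrArg (fun z => z ≫ F.map e.hom) ?_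
    rw [← cancel_mono ((F.commShiftIso n).hom.app (G⟦-n⟧)), Category.assoc, Category.assoc, Iso.inv_hom_id_app]
    erw [Category.comp_id]
    exact (F.commShiftIso n).hom.naturality w]
  exact hm.comp (h _)

variable {A : Type u} [CommRing A] [IsNoetherianRing A] [PreservesFiniteLimits (tilde.functor (CommRingCat.of A))]
  {X : Scheme.{u}} [X.Over (Spec (CommRingCat.of A))] [IsProper (X ↘ Spec (CommRingCat.of A))]
  [DCoh.HasRpush (X ↘ Spec (CommRingCat.of A))]

set_option maxHeartbeats 1600000 in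
/-- The trace is invertible if `f_* O = O` and `O_X` has no higher cohomology. -/
theorem isIso_counit_of_acyclic {h : DCoh.RpushPreservesQCoh (X ↘ Spec (CommRingCat.of A))}
    {a : DCoh.DQCoh (Spec (CommRingCat.of A)) ⥤ DCoh.DQCoh X}
    (adj : DCoh.RpushQ (X ↘ Spec (CommRingCat.of A)) h ⊣ a) (W : DCoh.DQCoh (Spec (CommRingCat.of A)))
    (hglob : Function.Bijective (Coh.toGlobal (X ↘ Spec (CommRingCat.of A))))
    (hvan : ∀ k : ℕ, 0 < k → Subsingleton (Coh.HH X (Coh.structureModule X) k)) :
    IsIso (adj.counit.app W).hom := by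
  let f := X ↘ Spec (CommRingCat.of A)
  letI iS : (Spec (CommRingCat.of A)).Over (Spec (CommRingCat.of A)) := ⟨𝟙 _⟩
  haveI : IsLocallyNoetherian X := LocallyOfFiniteType.isLocallyNoetherian f
  haveI := Groth.L00.KFlat.hasLpull f
  haveI : (DCoh.Rpush f).Additive := RpushColim.additive_Rpush f
  letI := Gen.commShiftRpush f
  have hsq : f ≫ (Spec (CommRingCat.of A) ↘ Spec (CommRingCat.of A)) =
      f ≫ Spec.map (CommRingCat.ofHom (RingHom.id A)) := by
    rw [CommRingCat.ofHom_id, Spec.map_id]; rfl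
  have hgS : Function.Bijective (Coh.toGlobal (Spec (CommRingCat.of A) ↘ Spec (CommRingCat.of A))) := by
    have h1 := ConcreteCategory.bijective_of_isIso (C := CommRingCat) (Scheme.ΓSpecIso (CommRingCat.of A)).inv
    have h2 : ∀ r : A, Coh.toGlobal (Spec (CommRingCat.of A) ↘ Spec (CommRingCat.of A)) r =
        (Scheme.ΓSpecIso (CommRingCat.of A)).inv r := fun r => by
      have h3 : (Spec (CommRingCat.of A) ↘ Spec (CommRingCat.of A)) = 𝟙 (Spec (CommRingCat.of A)) := rfl
      rw [Coh.toGlobal, h3, Scheme.Hom.id_appTop]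
      rfl
    exact ⟨fun p q hpq => h1.1 (((h2 p).symm.trans hpq).trans (h2 q)), fun y => ⟨(h1.2 y).choose,
      (h2 _).trans (h1.2 y).choose_spec⟩⟩
  have hvS : ∀ k : ℕ, 0 < k →
      Subsingleton (Coh.HH (Spec (CommRingCat.of A)) (Coh.structureModule (Spec (CommRingCat.of A))) k) := fun k hk => by
    haveI := (Groth.L16.Rees.RelVanish.isCoh_structureModule (Spec (CommRingCat.of A))).1
    obtain ⟨m, rfl⟩ := Nat.exists_eq_add_of_le' hk
    exact Groth.L17.subsingleton_HH_of_isAffine _ _ m
  let OS := DCoh.inD (Spec (CommRingCat.of A)) (Coh.structureModule (Spec (CommRingCat.of A)))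
  let P := (DCoh.Lpull f).obj OS
  obtain ⟨o₁⟩ := Groth.L17.LocDual.nonempty_Lpull_inD f (Coh.structureModule (Spec (CommRingCat.of A)))
    (Groth.L29.DC.isFlat_structureModule _)
  let oP : P ≅ DCoh.inD X (Coh.structureModule X) :=
    o₁ ≪≫ (DerivedCategory.singleFunctor X.Modules 0).mapIso (Groth.L29.LocFree.pullbackUnitIso f)
  have hPq : DCoh.IsQCohD P :=
    DCoh.IsQCohD.prop_of_iso oP.symm isQCohD_inD_structure
  let η : OS ⟶ (DCoh.Rpush f).obj P := (Groth.L29.BC.adj f).unit.app OS
  have hη : IsIso η := by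
    refine isIso_of_bijective_structure isQCohD_inD_structure (h P hPq) η fun n => ?_
    rcases eq_or_ne n 0 with rfl | hn
    · -- degree zero
      let z := (shiftFunctorZero (DCoh.D (Spec (CommRingCat.of A))) ℤ).app OS
      have hP : Function.Bijective fun r : A => r • 𝟙 P := by
        have h1 := (Iso.homCongr oP.symm oP.symm).bijective.comp (bijective_smul_id_inD (A := A) hglob)
        convert h1 using 1
        funext r
        simp [Iso.homCongr]
      have hR : Function.Bijective fun r : A => r • η := by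
        have h1 := ((Groth.L29.BC.adj f).homEquiv OS P).bijective.comp hP
        convert h1 using 1
        funext r
        show r • η = (Groth.L29.BC.adj f).homEquiv OS P (r • 𝟙 P)
        rw [Adjunction.homEquiv_unit]
        have h2 : (DCoh.Rpush f).map (r • 𝟙 P) = r • (DCoh.Rpush f).map (𝟙 P) :=
          Groth.L29.BCAdj.Rpush_smul (RingHom.id A) f hsq r (𝟙 P)
        rw [h2, Linear.comp_smul, CategoryTheory.Functor.map_id]
        exact (congrArg (r • ·) (Category.comp_id η)).symm
      have hz : Function.Bijective fun x : OS ⟶ OS => z.hom ≫ x :=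
        ⟨fun p q hpq => (cancel_epi z.hom).1 hpq, fun v => ⟨z.inv ≫ v, by simp⟩⟩
      have hz' : Function.Bijective fun x : OS ⟶ (DCoh.Rpush f).obj P => z.hom ≫ x :=
        ⟨fun p q hpq => (cancel_epi z.hom).1 hpq, fun v => ⟨z.inv ≫ v, by simp⟩⟩
      refine (Function.Bijective.of_comp_iff _ (hz.comp (bijective_smul_id_inD (A := A) hgS))).1 ?_
      convert hz'.comp hR using 1
      funext r
      show (z.hom ≫ (r • 𝟙 OS)) ≫ η = z.hom ≫ (r • η)
      rw [Category.assoc, Linear.smul_comp]
      erw [Category.id_comp]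
    · -- both sides vanish
      let e := (shiftFunctorCompIsoId (DCoh.D (Spec (CommRingCat.of A))) n (-n) (by omega)).app OS
      have h1 : Subsingleton (OS ⟶ OS⟦-n⟧) := subsingleton_hom_shift hvS (-n) (by omega)
      have h2 : Subsingleton (OS ⟶ ((DCoh.Rpush f).obj P)⟦-n⟧) := by
        haveI := subsingleton_hom_shift hvan (-n) (by omega)
        exact ((Iso.homCongr (Iso.refl OS) (((DCoh.Rpush f).commShiftIso (-n)).app P).symm).trans
          (((Groth.L29.BC.adj f).homEquiv _ _).symm.trans
            (Iso.homCongr oP ((shiftFunctor _ (-n)).mapIso oP)))).subsingleton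
      have hsub : ∀ G : DCoh.D (Spec (CommRingCat.of A)), Subsingleton (OS ⟶ G⟦-n⟧) → Subsingleton (OS⟦n⟧ ⟶ G) :=
        fun G hG => subsingleton_of_forall_eq 0 fun v => (shiftFunctor _ (-n)).map_injective (by
          rw [Functor.map_zero, ← cancel_epi e.inv, comp_zero]
          exact @Subsingleton.elim (OS ⟶ G⟦-n⟧) hG _ _)
      haveI := hsub _ h1
      haveI := hsub _ h2
      exact ⟨fun _ _ _ => Subsingleton.elim _ _, fun _ => ⟨0, Subsingleton.elim _ _⟩⟩
  -- `Rf_*` is bijective on maps out of `P`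
  have hmap : ∀ G : DCoh.D X, Function.Bijective fun v : P ⟶ G => (DCoh.Rpush f).map v := fun G => by
    refine (Function.Bijective.of_comp_iff' (f := fun w : (DCoh.Rpush f).obj P ⟶ (DCoh.Rpush f).obj G => η ≫ w)
      ⟨fun p q hpq => (cancel_epi η).1 hpq, fun v => ⟨inv η ≫ v, by simp⟩⟩ _).1 ?_
    convert ((Groth.L29.BC.adj f).homEquiv OS G).bijective using 1
    funext v
    exact ((Groth.L29.BC.adj f).homEquiv_unit ..).symm
  refine isIso_of_bijective_structure (h _ (a.obj W).property) W.property _ fun n => ?_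
  let tr : (DCoh.Rpush f).obj (a.obj W).obj ⟶ W.obj := (adj.counit.app W).hom
  let Q : DCoh.DQCoh X := ⟨P⟦n⟧, Gen.isQCohD_shift hPq n⟩
  let ψ : OS⟦n⟧ ≅ (DCoh.Rpush f).obj (P⟦n⟧) :=
    (shiftFunctor _ n).mapIso (asIso η) ≪≫ (((DCoh.Rpush f).commShiftIso n).app P).symm
  have hψ : ∀ G : DCoh.D (Spec (CommRingCat.of A)),
      Function.Bijective fun w : (DCoh.Rpush f).obj (P⟦n⟧) ⟶ G => ψ.hom ≫ w := fun G =>
    ⟨fun p q hpq => (cancel_epi ψ.hom).1 hpq, fun v => ⟨ψ.inv ≫ v, by simp⟩⟩
  have h1 : Function.Bijective fun v : P⟦n⟧ ⟶ (a.obj W).obj => ψ.hom ≫ (DCoh.Rpush f).map v :=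
    (hψ _).comp (bijective_map_shift (DCoh.Rpush f) P hmap n _)
  have h2 : Function.Bijective fun v : P⟦n⟧ ⟶ (a.obj W).obj => ψ.hom ≫ (DCoh.Rpush f).map v ≫ tr := by
    refine (hψ _).comp ⟨fun p q hpq => ?_, fun v => ?_⟩
    · have := (adj.homEquiv Q W).symm.injective
        (a₁ := ObjectProperty.homMk p) (a₂ := ObjectProperty.homMk q) (ObjectProperty.hom_ext _ (by
          rw [Adjunction.homEquiv_counit, Adjunction.homEquiv_counit]
          exact hpq))
      exact congrArg (fun z : Q ⟶ a.obj W => z.hom) this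
    · refine ⟨(adj.homEquiv Q W (ObjectProperty.homMk v)).hom, ?_⟩
      have h3 : ((adj.homEquiv Q W).symm (adj.homEquiv Q W (ObjectProperty.homMk v))).hom = v := by
        rw [Equiv.symm_apply_apply]; rfl
      rw [Adjunction.homEquiv_counit] at h3
      exact h3
  refine (Function.Bijective.of_comp_iff _ h1).1 ?_
  convert h2 using 1
  funext v
  exact Category.assoc _ _ _

end Groth.L17.GRSurf
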