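import Groth.Agent.L05.RatPow.Main
import Groth.Agent.L13.GGH1
import Groth.Agent.L00.TensorQCoh
import Groth.Agent.L00.TensorColim

/-!
# Vanishing of `H¹` of a twist by the powers of the exceptional ideal
-/

set_option autoImplicit false
set_option linter.style.haveILetI false
set_option linter.unusedSectionVars false
set_option backward.isDefEq.respectTransparency false
set_option backward.isDefEq.respectTransparency.types false

universe u

open CategoryTheory CategoryTheory.Limits AlgebraicGeometry TopologicalSpace Opposite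
open Groth.L21.RR (st one oneSec st_comp st_germ st_one_top)
open Groth.L00.Tensor (tensorLeftF tensorMap tensorUnitRight tensorMap_id)
open Groth.L16.CohLinear (hmap hmap_comp hmap_id exact_hmap_delta)

noncomputable section

namespace Groth.L17.GRSurf

variable {X : Scheme.{u}}

theorem subsingleton_H1_epi (h2 : ∀ K : X.Modules, Coh.IsQCoh K → Subsingleton (Coh.HH X K 2))
    {P G : X.Modules} (hP : Coh.IsQCoh P) (hG : Coh.IsQCoh G) (π : P ⟶ G) [Epi π]
    (h : Subsingleton (Coh.HH X P 1)) : Subsingleton (Coh.HH X G 1) := by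
  have hS : (ShortComplex.mk (kernel.ι π) π (kernel.condition _)).ShortExact :=
    { exact := ShortComplex.exact_kernel _ }
  refine subsingleton_of_forall_eq 0 fun y => ?_
  obtain ⟨w, hw⟩ := (exact_hmap_delta hS 1 y).1
    ((h2 _ (Groth.L00.AlgQCoh.isQCoh_kernel_cokernel π hP hG).1).elim _ _)
  rw [← hw, h.elim w 0, map_zero]

theorem biproduct_total {S : Type u} [Fintype S] (F : X.Modules) :
    𝟙 (⨁ fun _ : S => F) =
      ∑ j : S, biproduct.π (fun _ : S => F) j ≫ biproduct.ι (fun _ : S => F) j := by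
  classical
  refine biproduct.hom_ext' _ _ fun j => ?_
  rw [Category.comp_id, Preadditive.comp_sum, Finset.sum_eq_single j]
  · rw [biproduct.ι_π_self_assoc]
  · intro k _ hk
    rw [biproduct.ι_π_ne_assoc _ hk.symm, zero_comp]
  · simp

theorem subsingleton_H1_map_biproduct (T : X.Modules ⥤ X.Modules) [T.Additive] (F : X.Modules)
    (h : Subsingleton (Coh.HH X (T.obj F) 1)) {S : Type u} [Fintype S] :
    Subsingleton (Coh.HH X (T.obj (⨁ fun _ : S => F)) 1) := by
  refine subsingleton_of_forall_eq 0 fun x => ?_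
  rw [← hmap_id 1 x, ← CategoryTheory.Functor.map_id T, biproduct_total, Functor.map_sum,
    Groth.L21.RR.hmap_sum']
  refine Finset.sum_eq_zero fun j _ => ?_
  rw [Functor.map_comp, hmap_comp, h.elim (hmap (T.map (biproduct.π _ j)) 1 x) 0, map_zero]

theorem subsingleton_H1_iso {F G : X.Modules} (e : G ≅ F) (h : Subsingleton (Coh.HH X F 1)) :
    Subsingleton (Coh.HH X G 1) :=
  subsingleton_of_forall_eq 0 fun x => by
    rw [← hmap_id 1 x, ← e.hom_inv_id, hmap_comp, h.elim (hmap e.hom 1 x) 0, map_zero]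

/-- Tensoring a quotient of a finite free module preserves vanishing of `H¹` when `H²` vanishes. -/
theorem subsingleton_H1_tensor (h2 : ∀ K : X.Modules, Coh.IsQCoh K → Subsingleton (Coh.HH X K 2))
    (Ω : X.Modules) [Coh.IsQCoh Ω] (hΩ : Subsingleton (Coh.HH X Ω 1))
    {S : Type u} [Fintype S] {G : X.Modules} [Coh.IsQCoh G]
    (π : (⨁ fun _ : S => Coh.structureModule X) ⟶ G) [Epi π] :
    Subsingleton (Coh.HH X (CohB1.tensorMod Ω G) 1) := by
  haveI : Coh.IsQCoh (Coh.structureModule X) := Groth.L19.Conormal.isQCoh_structureModule X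
  haveI : Coh.IsQCoh (⨁ fun _ : S => Coh.structureModule X) :=
    Groth.L29.QCohInj.isQCoh_of_finite_biproduct _ fun _ => inferInstance
  haveI : PreservesColimitsOfSize.{0, 0} (tensorLeftF Ω) := preservesColimitsOfSize_shrink.{0, u, 0, u} _
  haveI : PreservesFiniteColimits (tensorLeftF Ω) := inferInstance
  haveI : (tensorLeftF Ω).Additive :=
    haveI := preservesBinaryBiproducts_of_preservesBinaryCoproducts (tensorLeftF Ω)
    Functor.additive_of_preservesBinaryBiproducts _
  haveI : Epi ((tensorLeftF Ω).map π) := inferInstance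
  exact subsingleton_H1_epi h2 (Groth.L00.Tensor.isQCoh_tensorMod Ω _) (Groth.L00.Tensor.isQCoh_tensorMod Ω G)
    ((tensorLeftF Ω).map π)
    (subsingleton_H1_map_biproduct (tensorLeftF Ω) (Coh.structureModule X)
      (subsingleton_H1_iso (tensorUnitRight Ω) hΩ))

variable {A : Type u} [CommRing A] [IsLocalRing A] [IsNoetherianRing A] (f : X ⟶ Spec (CommRingCat.of A))

/-- The powers of the pulled back maximal ideal are quotients of finite free modules. -/
theorem exists_epi_idealMod (n : ℕ) : ∃ (S : Type u) (_ : Fintype S)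
    (π : (⨁ fun _ : S => Coh.structureModule X) ⟶ ClSub.idealMod (Groth.L05.RatPow.J f ^ n)), Epi π := by
  obtain ⟨T, hT⟩ := IsNoetherian.noetherian (IsLocalRing.maximalIdeal A ^ n)
  have hTm : ∀ a : T, (a : A) ∈ IsLocalRing.maximalIdeal A ^ n := fun a => hT ▸ Submodule.subset_span a.2
  choose τ hτ using fun a : T =>
    Groth.L05.RatPow.exists_τ f n (a := a.1) fun x => Ideal.mem_map_of_mem _ (hTm a)
  refine ⟨T, inferInstance, biproduct.desc τ, (Groth.L21.Mod.epi_iff_stalk_surjective _).2 fun x u => ?_⟩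
  obtain ⟨c, hc⟩ := Groth.L05.RatPow.exists_coeff x (st (ClSub.idealModι (Groth.L05.RatPow.J f ^ n)) x u)
  have hmem := (Groth.L05.RatPow.range_ι_iff f n x c).1 ⟨u, hc.symm⟩
  suffices key : ∀ c ∈ (IsLocalRing.maximalIdeal A ^ n).map (Groth.L05.RatPow.χ f x),
      ∃ v, st (biproduct.desc τ ≫ ClSub.idealModι (Groth.L05.RatPow.J f ^ n)) x v = c • one X x by
    obtain ⟨v, hv⟩ := key c hmem
    rw [st_comp] at hv
    exact ⟨v, Groth.L05.RatPow.st_ι_injective f n x (hv.trans hc)⟩
  intro c hc
  rw [← hT] at hc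
  change c ∈ (Ideal.span (T : Set A)).map (Groth.L05.RatPow.χ f x) at hc
  rw [Ideal.map_span] at hc
  induction hc using Submodule.span_induction with
  | mem r hr =>
    obtain ⟨a, ha, rfl⟩ := hr
    refine ⟨st (biproduct.ι (fun _ : T => Coh.structureModule X) ⟨a, ha⟩) x (one X x), ?_⟩
    rw [← st_comp, biproduct.ι_desc_assoc, hτ ⟨a, ha⟩]
    exact Groth.L05.RatPow.st_mulBy_one _ x
  | zero => exact ⟨0, by rw [map_zero, zero_smul]⟩
  | add a b _ _ ha hb =>
    obtain ⟨w, hw⟩ := ha
    obtain ⟨w', hw'⟩ := hb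
    exact ⟨w + w', by rw [map_add, hw, hw', add_smul]⟩
  | smul r a _ ha =>
    obtain ⟨w, hw⟩ := ha
    exact ⟨r • w, by rw [map_smul, hw, smul_eq_mul, mul_smul]⟩

end Groth.L17.GRSurf
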